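import Cfsg.Agent.OD.Pre
import Cfsg.Agent.H6.D4B
import Cfsg.Agent.H6.D4DA.D0
set_option autoImplicit false
set_option maxRecDepth 100000
set_option Elab.async false
set_option linter.all false
namespace CfH6.D4D
open CfH6 CfH6.D MulAction
theorem iD0 : Rng (chkInvT (fun x => fD (Nat.succ x)) D4B.il 9 819) 0 819 := rng_of 0 6 51 819 (by decide +kernel)
theorem rD0 : Rng (chkRelT (fun x => fD (Nat.succ x)) D4B.rels) 0 819 := rng_of 0 6 51 819 (by decide +kernel)
theorem dD0 : Rng (chkId fD) 0 819 := rng_of 0 6 51 819 (by decide +kernel)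
theorem sD0 : Rng (chkSl fD sa sb 6 51) 10 64 := rng_of 10 0 54 64 (by decide +kernel)
end CfH6.D4D
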